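import Cfsg.Agent.FischerThm.Basic
import Cfsg.Agent.FormTranspositions.Orthogonal
import Cfsg.Agent.QuadTwo.Forms

/-!
# Recognition of orthogonal groups over the field with two elements from their transvections
-/

set_option autoImplicit false

universe u v

namespace CfsgLib.FischerThm.Sp

open CfsgLib CfsgLib.QuadTwo Module QuadraticMap CfsgLib.Dickson CfsgLib.FormTranspositions

theorem mem_center_of_gen {G : Type u} [Group G] {D : Set G} (hD : Subgroup.closure D = ⊤) {g : G}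
    (h : ∀ x ∈ D, g * x = x * g) : g ∈ Subgroup.center G := by
  have hle : Subgroup.closure D ≤ Subgroup.centralizer ({g} : Set G) :=
    (Subgroup.closure_le _).2 fun x hx => Subgroup.mem_centralizer_singleton_iff.2 (h x hx).symm
  rw [hD] at hle
  exact Subgroup.mem_center_iff.2 fun y =>
    Subgroup.mem_centralizer_singleton_iff.1 (hle (Subgroup.mem_top y))

/-- Centreless groups with corresponding generators acting alike are isomorphic. -/
theorem dIso_of_conj {G : Type u} [Group G] {H : Type v} [Group H] {D : Set G} {E : Set H}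
    (hD : Subgroup.closure D = ⊤) (hE : Subgroup.closure E = ⊤) (hG : Subgroup.center G = ⊥)
    (hH : Subgroup.center H = ⊥) (ψ : G → H) (hψ : Set.BijOn ψ D E)
    (hc : ∀ x ∈ D, ∀ y ∈ D, x * y * x⁻¹ ∈ D ∧ ψ (x * y * x⁻¹) = ψ x * ψ y * (ψ x)⁻¹)
    (hi : ∀ x ∈ D, ∀ y ∈ D, x⁻¹ * y * x ∈ D ∧ ψ (x⁻¹ * y * x) = (ψ x)⁻¹ * ψ y * ψ x) :
    DIso D E := by
  set K : Subgroup (G × H) := Subgroup.closure ((fun x => (x, ψ x)) '' D) with hK
  have key : ∀ p ∈ K, ∀ y ∈ D, p.1 * y * p.1⁻¹ ∈ D ∧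
      ψ (p.1 * y * p.1⁻¹) = p.2 * ψ y * p.2⁻¹ := by
    intro p hp
    induction hp using Subgroup.closure_induction'' with
    | one => intro y hy; simpa using hy
    | mem p hp => obtain ⟨x, hx, rfl⟩ := hp; exact hc x hx
    | inv_mem p hp =>
      obtain ⟨x, hx, rfl⟩ := hp
      intro y hy
      simpa using hi x hx y hy
    | mul p q _ _ ihp ihq =>
      intro y hy
      obtain ⟨h1, h2⟩ := ihq y hy
      obtain ⟨h3, h4⟩ := ihp _ h1
      have e : (p * q).1 * y * (p * q).1⁻¹ = p.1 * (q.1 * y * q.1⁻¹) * p.1⁻¹ := by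
        simp [mul_assoc]
      rw [e]
      exact ⟨h3, by rw [h4, h2]; simp [mul_assoc]⟩
  let f := (MonoidHom.fst G H).comp K.subtype
  let g := (MonoidHom.snd G H).comp K.subtype
  have hf : Function.Bijective f := by
    constructor
    · rw [← MonoidHom.ker_eq_bot_iff, eq_bot_iff]
      rintro ⟨p, hp⟩ h1
      have hp1 : p.1 = 1 := h1
      suffices hp2 : p.2 ∈ Subgroup.center H by
        rw [hH, Subgroup.mem_bot] at hp2
        exact Subtype.ext (Prod.ext hp1 hp2)
      refine mem_center_of_gen hE fun w hw => ?_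
      obtain ⟨y, hy, rfl⟩ := hψ.2.2 hw
      have h2 := (key p hp y hy).2
      rw [hp1, one_mul, inv_one, mul_one] at h2
      exact (mul_inv_eq_iff_eq_mul.1 h2.symm)
    · rw [← MonoidHom.range_eq_top, eq_top_iff, ← hD, Subgroup.closure_le]
      exact fun x hx => ⟨⟨(x, ψ x), Subgroup.subset_closure ⟨x, hx, rfl⟩⟩, rfl⟩
  have hg : Function.Bijective g := by
    constructor
    · rw [← MonoidHom.ker_eq_bot_iff, eq_bot_iff]
      rintro ⟨p, hp⟩ h1
      have hp2 : p.2 = 1 := h1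
      suffices hp1 : p.1 ∈ Subgroup.center G by
        rw [hG, Subgroup.mem_bot] at hp1
        exact Subtype.ext (Prod.ext hp1 hp2)
      refine mem_center_of_gen hD fun y hy => ?_
      have h2 := key p hp y hy
      rw [hp2, one_mul, inv_one, mul_one] at h2
      exact mul_inv_eq_iff_eq_mul.1 (hψ.2.1 h2.1 hy h2.2)
    · rw [← MonoidHom.range_eq_top, eq_top_iff, ← hE, Subgroup.closure_le]
      intro w hw
      obtain ⟨x, hx, rfl⟩ := hψ.2.2 hw
      exact ⟨⟨(x, ψ x), Subgroup.subset_closure ⟨x, hx, rfl⟩⟩, rfl⟩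
  refine ⟨(MulEquiv.ofBijective f hf).symm.trans (MulEquiv.ofBijective g hg), ?_⟩
  have he : ∀ x ∈ D, ((MulEquiv.ofBijective f hf).symm.trans (MulEquiv.ofBijective g hg)) x = ψ x := by
    intro x hx
    have h1 : (MulEquiv.ofBijective f hf).symm x = ⟨(x, ψ x), Subgroup.subset_closure ⟨x, hx, rfl⟩⟩ := by
      rw [MulEquiv.symm_apply_eq]; rfl
    rw [MulEquiv.trans_apply, h1]; rfl
  rw [Set.image_congr he]
  exact hψ.image_eq

section Orth

variable {G : Type u} [Group G] {ι : Type} [Fintype ι] [DecidableEq ι]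
  {Q : QuadraticForm (ZMod 2) (ι → ZMod 2)}

theorem refl_inj (hQ : (polarBilin Q).Nondegenerate) {x y : ι → ZMod 2} (hx : Q x = 1) (hy : Q y = 1)
    (h : (Dickson.refl x hx : orth Q) = Dickson.refl y hy) : x = y := by
  have hx0 : x ≠ 0 := fun e => by rw [e, QuadraticMap.map_zero] at hx; exact zero_ne_one hx
  obtain ⟨u, hu⟩ : ∃ u, polar Q x u ≠ 0 := by
    by_contra hno
    push Not at hno
    exact hx0 (hQ.1 x hno)
  have h' : disp (Dickson.refl x hx : orth Q) u = disp (Dickson.refl y hy : orth Q) u := by rw [h]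
  rw [disp_refl, disp_refl, (zmod_two_cases _).resolve_left hu, one_smul] at h'
  rcases zmod_two_cases (polar Q y u) with hv | hv
  · rw [hv, zero_smul] at h'; exact absurd h' hx0
  · rw [hv, one_smul] at h'; exact h'

theorem center_orth_eq_bot (hQ : (polarBilin Q).Nondegenerate) (h5 : 5 ≤ finrank (ZMod 2) (ι → ZMod 2)) :
    Subgroup.center (orth Q) = ⊥ := by
  rw [eq_bot_iff]
  intro g hg
  rw [Subgroup.mem_bot]
  have hfix : ∀ x, Q x = 1 → (g : (ι → ZMod 2) ≃ₗ[ZMod 2] (ι → ZMod 2)) x = x := by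
    intro x hx
    have h1 := Dickson.conj_refl g x hx
    rw [← Subgroup.mem_center_iff.1 hg (Dickson.refl x hx), mul_inv_cancel_right] at h1
    exact (refl_inj hQ _ _ h1).symm
  apply Subtype.ext
  apply LinearEquiv.ext
  intro u
  show (g : (ι → ZMod 2) ≃ₗ[ZMod 2] (ι → ZMod 2)) u = u
  by_contra hne
  set z := (g : (ι → ZMod 2) ≃ₗ[ZMod 2] (ι → ZMod 2)) u + u with hz
  have hz0 : z ≠ 0 := fun e => hne ((Dickson.add_eq_zero_iff (F := ZMod 2)).1 e)
  obtain ⟨w, hw⟩ : ∃ w, polar Q z w ≠ 0 := by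
    by_contra hno
    push Not at hno
    exact hz0 (hQ.1 z hno)
  have hw0 : w ≠ 0 := fun e => hw (by rw [e, polar, add_zero, QuadraticMap.map_zero]; simp)
  have hwz : z ≠ w := fun e => hw (by rw [← e, Dickson.polar_self_zero])
  obtain ⟨x, hx, hzx, -⟩ := exists_linked hQ h5 hz0 hw0 hwz
  rw [hz, QuadraticMap.polar_add_left] at hzx
  conv at hzx => lhs; arg 1; arg 3; rw [← hfix x hx]
  rw [Dickson.polar_map, CharTwo.add_self_eq_zero] at hzx
  exact zero_ne_one hzx

/-- Recognition by a map on the generators. -/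
theorem dIso_of_coord {D : Set G} (hD : Cfsg.IsThreeTranspositionClass D)
    (hG : Subgroup.center G = ⊥) (hQ : (polarBilin Q).Nondegenerate) (h5 : 5 ≤ Fintype.card ι)
    (ψ : G → (ι → ZMod 2)) (hψ : Set.BijOn ψ D {x | Q x = 1})
    (hcomm : ∀ x ∈ D, ∀ y ∈ D, Commute x y → polar Q (ψ x) (ψ y) = 0)
    (hthird : ∀ x ∈ D, ∀ y ∈ D, ¬ Commute x y → polar Q (ψ x) (ψ y) = 1 ∧ ψ (x * y * x) = ψ x + ψ y) :
    DIso D {g : ↥(Cfsg.isometryGroup (ZMod 2) ⇑Q) |
      (((g : GL ι (ZMod 2)) : Matrix ι ι (ZMod 2)) - 1).rank = 1} := by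
  classical
  have h5' : 5 ≤ finrank (ZMod 2) (ι → ZMod 2) := by rwa [Module.finrank_fintype_fun_eq_card]
  obtain ⟨-, -, hgenE⟩ := orth_three_transposition_class hQ h5'
  have hiso : DIso {g : ↥(Cfsg.isometryGroup (ZMod 2) ⇑Q) |
      (((g : GL ι (ZMod 2)) : Matrix ι ι (ZMod 2)) - 1).rank = 1}
      {g : orth Q | finrank (ZMod 2) (LinearMap.range (disp g)) = 1} := by
    refine ⟨toOrth Q, ?_⟩
    ext g
    constructor
    · rintro ⟨k, hk, rfl⟩
      rwa [Set.mem_ofPred_eq, rank_eq_finrank_disp] at hk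
    · intro hg
      refine ⟨(toOrth Q).symm g, ?_, MulEquiv.apply_symm_apply _ _⟩
      rwa [Set.mem_ofPred_eq, rank_eq_finrank_disp, MulEquiv.apply_symm_apply]
  refine DIso.trans ?_ hiso.symm
  let φ : G → orth Q := fun x => if hx : Q (ψ x) = 1 then Dickson.refl (ψ x) hx else 1
  have hφ : ∀ x (hx : x ∈ D), φ x = Dickson.refl (ψ x) (hψ.1 hx) := fun x hx => dif_pos (hψ.1 hx)
  have hgrp := Transpositions.isThreeTranspositionGroup_of_class hD
  have hinv : ∀ x ∈ D, x⁻¹ = x := fun x hx => FischerTypes.inv_eq hD.1 hx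
  have hφinv : ∀ x ∈ D, (φ x)⁻¹ = φ x := fun x hx => by rw [hφ x hx, refl_inv]
  have main : ∀ x ∈ D, ∀ y ∈ D, x * y * x ∈ D ∧ φ (x * y * x) = φ x * φ y * φ x := by
    intro x hx y hy
    have hm : x * y * x ∈ D := FischerTypes.conj_mem hgrp hx hy
    refine ⟨hm, ?_⟩
    rw [hφ _ hm, hφ x hx, hφ y hy, refl_conj_refl]
    refine refl_congr _ _ ?_
    by_cases hc : Commute x y
    · rw [hcomm x hx y hy hc, zero_smul, add_zero,
        show x * y * x = y by rw [hc.eq, mul_assoc, FischerTypes.mul_self hD.1 hx, mul_one]]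
    · rw [(hthird x hx y hy hc).1, (hthird x hx y hy hc).2, one_smul, add_comm]
  refine dIso_of_conj hgrp.2.2 hgenE hG (center_orth_eq_bot hQ h5') φ ⟨?_, ?_, ?_⟩ (fun x hx y hy => ?_)
    (fun x hx y hy => ?_)
  · intro x hx
    rw [Set.mem_ofPred_eq, hφ x hx]
    exact finrank_disp_refl hQ _ _
  · intro x hx y hy he
    rw [hφ x hx, hφ y hy] at he
    exact hψ.2.1 hx hy (refl_inj hQ _ _ he)
  · intro g hg
    obtain ⟨v, hv, rfl⟩ := exists_refl_of_finrank hQ g hg
    obtain ⟨x, hx, rfl⟩ := hψ.2.2 hv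
    exact ⟨x, hx, hφ x hx⟩
  · rw [hinv x hx, hφinv x hx]; exact main x hx y hy
  · rw [hinv x hx, hφinv x hx]; exact main x hx y hy

end Orth

end CfsgLib.FischerThm.Sp
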