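import Cfsg.Agent.FischerThm.SpStep.Outside

/-!
# Orthogonal coordinates for a class with symplectic neighbourhoods
-/

set_option autoImplicit false

universe u

namespace CfsgLib.FischerThm.Sp

open CfsgLib CfsgLib.QuadTwo Cfsg CfsgLib.FischerTypes
open scoped Classical

/-- A hyperbolic or anisotropic pair and a symplectic part. -/
abbrev TV (m : ℕ) := (ZMod 2 × ZMod 2) × Vec m

variable {m : ℕ}

/-- The quadratic form; `e` tells the type. -/
def QT (e : ZMod 2) (t : TV m) : ZMod 2 :=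
  t.1.1 + t.1.1 * t.1.2 + e * t.1.2 + Cfsg.quadFormPlus m (ZMod 2) t.2

/-- Its polar form. -/
def BT (s t : TV m) : ZMod 2 := s.1.1 * t.1.2 + t.1.1 * s.1.2 + pol s.2 t.2

theorem QT_add (e : ZMod 2) (s t : TV m) : QT e (s + t) = QT e s + QT e t + BT s t := by
  simp only [QT, BT, Prod.fst_add, Prod.snd_add, plus_add]; ring

theorem BT_comm (s t : TV m) : BT s t = BT t s := by
  simp only [BT, pol_comm s.2 t.2]; ring

theorem BT_add_right (s t t' : TV m) : BT s (t + t') = BT s t + BT s t' := by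
  simp only [BT, Prod.fst_add, Prod.snd_add, pol_add_right]; ring

variable {G : Type u} [Group G] [Finite G] {D : Set G}

theorem exists_coord (h : Generic D) (hm : 1 ≤ m) (hL : ∀ a ∈ D, Nonempty (Lab D a m)) :
    ∃ (e : ZMod 2) (t : G → TV m), Set.BijOn t D {p | QT e p = 1} ∧
      (∀ x ∈ D, ∀ y ∈ D, nc x y = BT (t x) (t y)) ∧
      ∀ x ∈ D, ∀ y ∈ D, ¬ Commute x y → t (x * y * x) = t x + t y := by
  obtain ⟨d, hd, -⟩ := h.pair
  obtain ⟨L⟩ := hL d hd
  have hout : ∀ {x : G}, x ∈ D → x ≠ d → Commute d x → x ∈ perp D d := fun hx hne hc => ⟨hx, hne, hc⟩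
  obtain ⟨c₀, hc₀, hdc₀⟩ : ∃ c ∈ D, ¬ Commute d c := by
    obtain ⟨x, hx⟩ := h.perp_nonempty hd
    obtain ⟨y, hy, hxy⟩ := h.noCentral hd x hx
    obtain ⟨g, hg⟩ := Transpositions.exists_conj_of_class h.cls hx.1 hd
    refine ⟨g * y * g⁻¹, h.group.2.1 g y hy.1, ?_⟩
    rw [← hg, commute_conj_iff']
    exact hxy
  -- the form of a member outside
  have hform : ∀ c : G, ∃ a : Vec m, c ∈ D → ¬ Commute d c →
      ∀ x ∈ perp D d, qf a (L.vec x) = 1 + nc x c := by
    intro c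
    by_cases hc : c ∈ D ∧ ¬ Commute d c
    · obtain ⟨a, ha⟩ := exists_form h hL hd hc.1 hc.2 L
      exact ⟨a, fun _ _ => ha⟩
    · exact ⟨0, fun h1 h2 => absurd ⟨h1, h2⟩ hc⟩
  choose A hA using hform
  have hAuniq : ∀ {c : G} {a : Vec m}, c ∈ D → ¬ Commute d c →
      (∀ x ∈ perp D d, qf a (L.vec x) = 1 + nc x c) → a = A c := by
    intro c a hc hdc ha
    apply qf_injective
    funext v
    by_cases hv : v = 0
    · simp [hv, qf, pol, Cfsg.quadFormPlus]
    obtain ⟨x, hx, rfl⟩ := L.surj v hv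
    rw [ha x hx, hA c hc hdc x hx]
  have hlev : ∀ c ∈ D, ¬ Commute d c →
      Cfsg.quadFormPlus m (ZMod 2) (A c) = Cfsg.quadFormPlus m (ZMod 2) (A c₀) := fun c hc hdc =>
    plus_form_eq h hm hd hc hdc hc₀ hdc₀ L (hA c hc hdc) (hA c₀ hc₀ hdc₀)
  have hmem : ∀ {x y : G}, x ∈ D → y ∈ D → x * y * x ∈ D := fun hx hy =>
    FischerTypes.conj_mem h.group hx hy
  -- conjugating by `d`
  have hAd : ∀ c ∈ D, ¬ Commute d c → d * c * d ∈ D ∧ ¬ Commute d (d * c * d) ∧ A (d * c * d) = A c := by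
    intro c hc hdc
    have h1 : ¬ Commute d (d * c * d) := by
      rw [← nc_eq_one, nc_third h hL hd hc hdc hd, nc_self, zero_add]; exact nc_eq_one.2 hdc
    refine ⟨hmem hd hc, h1, (hAuniq (hmem hd hc) h1 fun x hx => ?_).symm⟩
    rw [hA c hc hdc x hx, nc_third h hL hd hc hdc hx.1, nc_eq_zero.2 hx.2.2.symm, zero_add]
  -- conjugating by a member inside
  have hAb : ∀ c ∈ D, ¬ Commute d c → ∀ b ∈ perp D d, ¬ Commute b c →
      b * c * b ∈ D ∧ ¬ Commute d (b * c * b) ∧ A (b * c * b) = A c + L.vec b := by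
    intro c hc hdc b hb hbc
    have h1 : ¬ Commute d (b * c * b) := by
      rw [← nc_eq_one, nc_third h hL hb.1 hc hbc hd, nc_eq_zero.2 hb.2.2, zero_add]
      exact nc_eq_one.2 hdc
    refine ⟨hmem hb.1 hc, h1, (hAuniq (hmem hb.1 hc) h1 fun x hx => ?_).symm⟩
    rw [nc_third h hL hb.1 hc hbc hx.1, L.nc_eq hx hb, ← add_assoc,
      show qf (A c + L.vec b) (L.vec x) = qf (A c) (L.vec x) + pol (L.vec b) (L.vec x) by
        simp only [qf, pol_add_left]; ring,
      hA c hc hdc x hx, pol_comm]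
    ring
  -- every member outside is one of two moves away from `c₀`
  have hreach : ∀ c ∈ D, ¬ Commute d c → ∃ c₁,
      (c₁ = c₀ ∨ ∃ b ∈ perp D d, ¬ Commute b c₀ ∧ c₁ = b * c₀ * b) ∧
      (c = c₁ ∨ c = d * c₁ * d) := by
    intro c hc hdc
    suffices hs : ∃ c₁, (c₁ = c₀ ∨ ∃ b ∈ perp D d, ¬ Commute b c₀ ∧ c₁ = b * c₀ * b) ∧
        c₁ ∈ D ∧
        ¬ Commute d c₁ ∧ A c₁ = A c by
      obtain ⟨c₁, h1, h2, h3, h4⟩ := hs
      exact ⟨c₁, h1, fibre h hL hd h2 h3 hc hdc fun x hx => add_left_cancel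
        ((hA c₁ h2 h3 x hx).symm.trans (h4 ▸ hA c hc hdc x hx))⟩
    by_cases he : A c = A c₀
    · exact ⟨c₀, Or.inl rfl, hc₀, hdc₀, he.symm⟩
    have hv : A c₀ + A c ≠ 0 := fun h0 => he (eq_of_add_eq_zero h0).symm
    obtain ⟨b, hb, hbv⟩ := L.surj _ hv
    have hcancel : A c₀ + L.vec b = A c := by
      rw [hbv, ← add_assoc, show A c₀ + A c₀ = 0 from funext fun i => CharTwo.add_self_eq_zero _,
        zero_add]
    have hbc : ¬ Commute b c₀ := by
      rw [← nc_eq_one]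
      have h1 := hA c₀ hc₀ hdc₀ b hb
      rw [qf_eq, hcancel, hlev c hc hdc, CharTwo.add_self_eq_zero] at h1
      exact (by decide : ∀ z : ZMod 2, 0 = 1 + z → z = 1) _ h1
    obtain ⟨h1, h2, h3⟩ := hAb c₀ hc₀ hdc₀ b hb hbc
    exact ⟨_, Or.inr ⟨b, hb, hbc, rfl⟩, h1, h2, h3.trans hcancel⟩
  -- the coordinates
  let al : G → ZMod 2 := fun c => nc c₀ c + pol (A c₀) (A c)
  let t : G → TV m := fun x =>
    if x = d then ((1, 0), 0)
    else if Commute d x then ((1 + Cfsg.quadFormPlus m (ZMod 2) (L.vec x), 0), L.vec x)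
    else ((al x, 1), A x)
  have td : t d = ((1, 0), 0) := if_pos rfl
  have tb : ∀ x ∈ perp D d, t x = ((1 + Cfsg.quadFormPlus m (ZMod 2) (L.vec x), 0), L.vec x) :=
    fun x hx => by simp only [t]; rw [if_neg hx.2.1, if_pos hx.2.2]
  have tc : ∀ x, ¬ Commute d x → t x = ((al x, 1), A x) := fun x hx => by
    simp only [t]; rw [if_neg (fun e : x = d => hx (by rw [e])), if_neg hx]
  have trich : ∀ x ∈ D, x = d ∨ x ∈ perp D d ∨ ¬ Commute d x := fun x hx => by
    by_cases h1 : x = d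
    · exact Or.inl h1
    by_cases h2 : Commute d x
    · exact Or.inr (Or.inl ⟨hx, h1, h2⟩)
    · exact Or.inr (Or.inr h2)
  have qA : ∀ c ∈ D, ¬ Commute d c → ∀ x ∈ perp D d,
      nc x c = 1 + Cfsg.quadFormPlus m (ZMod 2) (L.vec x) + pol (A c) (L.vec x) := by
    intro c hc hdc x hx
    have h1 := hA c hc hdc x hx
    rw [qf] at h1
    rw [add_assoc, h1, ← add_assoc, CharTwo.add_self_eq_zero, zero_add]
  let P : G → Prop := fun x => ∀ y ∈ D, nc y x = BT (t y) (t x)
  have Pd : P d := by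
    intro y hy
    rcases trich y hy with rfl | hy' | hy'
    · rw [nc_self, td]; simp [BT, pol]
    · rw [nc_eq_zero.2 hy'.2.2.symm, tb y hy', td]; simp [BT, pol]
    · rw [nc_comm, nc_eq_one.2 hy', tc y hy', td]; simp [BT, pol]
  have Pb : ∀ b ∈ perp D d, P b := by
    intro b hb y hy
    rcases trich y hy with rfl | hy' | hy'
    · rw [nc_eq_zero.2 hb.2.2, td, tb b hb]; simp [BT, pol]
    · rw [L.nc_eq hy' hb, tb y hy', tb b hb]; simp [BT]
    · rw [nc_comm, qA y hy hy' b hb, tc y hy', tb b hb]; simp [BT]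
  have Pc₀ : P c₀ := by
    intro y hy
    rcases trich y hy with rfl | hy' | hy'
    · rw [nc_eq_one.2 hdc₀, td, tc c₀ hdc₀]; simp [BT, pol]
    · rw [qA c₀ hc₀ hdc₀ y hy', tb y hy', tc c₀ hdc₀]; simp [BT, pol_comm (A c₀)]
    · rw [tc y hy', tc c₀ hdc₀]
      simp only [BT, al, nc_self, pol_self, add_zero, mul_one, pol_comm (A y)]
      rw [nc_comm y, add_assoc, CharTwo.add_self_eq_zero, add_zero]
  have Pthird : ∀ x ∈ D, ∀ z ∈ D, ¬ Commute x z → P x → P z → t (x * z * x) = t x + t z →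
      P (x * z * x) := by
    intro x hx z hz hxz h1 h2 e y hy
    rw [nc_third h hL hx hz hxz hy, h1 y hy, h2 y hy, e, BT_add_right]
  have tbc : ∀ b ∈ perp D d, ¬ Commute b c₀ → t (b * c₀ * b) = t b + t c₀ := by
    intro b hb hbc
    obtain ⟨h1, h2, h3⟩ := hAb c₀ hc₀ hdc₀ b hb hbc
    have h4 := qA c₀ hc₀ hdc₀ b hb
    rw [nc_eq_one.2 hbc] at h4
    rw [tc _ h2, tc c₀ hdc₀, tb b hb, h3]
    have h5 : al (b * c₀ * b) = 1 + Cfsg.quadFormPlus m (ZMod 2) (L.vec b) + al c₀ := by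
      simp only [al]
      rw [nc_third h hL hb.1 hc₀ hbc hc₀, h3, nc_self, pol_self, nc_comm, nc_eq_one.2 hbc,
        pol_add_right, pol_self]
      revert h4
      generalize Cfsg.quadFormPlus m (ZMod 2) (L.vec b) = p
      generalize pol (A c₀) (L.vec b) = q
      revert p q
      decide
    rw [h5]
    ext <;> simp [add_comm]
  have tdc : ∀ c ∈ D, ¬ Commute d c → t (d * c * d) = t d + t c := by
    intro c hc hdc
    obtain ⟨h1, h2, h3⟩ := hAd c hc hdc
    rw [tc _ h2, tc c hdc, td, h3]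
    have h5 : al (d * c * d) = 1 + al c := by
      simp only [al]
      rw [nc_third h hL hd hc hdc hc₀, h3, nc_comm c₀ d, nc_eq_one.2 hdc₀, add_assoc]
    rw [h5]
    ext <;> simp
  have Pall : ∀ x ∈ D, P x := by
    intro x hx
    rcases trich x hx with rfl | hx' | hx'
    · exact Pd
    · exact Pb x hx'
    · obtain ⟨c₁, hc₁, hxc⟩ := hreach x hx hx'
      have hP₁ : c₁ ∈ D ∧ ¬ Commute d c₁ ∧ P c₁ := by
        rcases hc₁ with rfl | ⟨b, hb, hbc, rfl⟩
        · exact ⟨hc₀, hdc₀, Pc₀⟩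
        · obtain ⟨h1, h2, -⟩ := hAb c₀ hc₀ hdc₀ b hb hbc
          exact ⟨h1, h2, Pthird b hb.1 c₀ hc₀ hbc (Pb b hb) Pc₀ (tbc b hb hbc)⟩
      rcases hxc with rfl | rfl
      · exact hP₁.2.2
      · exact Pthird d hd c₁ hP₁.1 hP₁.2.1 Pd hP₁.2.2 (tdc c₁ hP₁.1 hP₁.2.1)
  have hsep : ∀ p q : TV m, (∀ y ∈ D, BT (t y) p = BT (t y) q) → p = q := by
    intro p q hpq
    obtain ⟨⟨a, b⟩, v⟩ := p
    obtain ⟨⟨a', b'⟩, v'⟩ := q
    have hb : b = b' := by have := hpq d hd; simpa [td, BT, pol] using this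
    subst hb
    have hv : v = v' := by
      refine eq_of_add_eq_zero (pol_sep fun w => ?_)
      by_cases hw : w = 0
      · rw [hw, pol_zero_right]
      obtain ⟨x, hx, rfl⟩ := L.surj w hw
      have := hpq x hx.1
      simp only [tb x hx, BT, mul_zero, add_zero, add_right_inj] at this
      rw [pol_add_left, pol_comm v, pol_comm v', this, CharTwo.add_self_eq_zero]
    subst hv
    have ha : a = a' := by have := hpq c₀ hc₀; simpa [tc c₀ hdc₀, BT] using this
    rw [ha]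
  have hQ : ∀ x ∈ D, QT (1 + Cfsg.quadFormPlus m (ZMod 2) (A c₀)) (t x) = 1 := by
    intro x hx
    rcases trich x hx with rfl | hx' | hx'
    · rw [td]; simp [QT, Cfsg.quadFormPlus]
    · rw [tb x hx']; simp [QT, add_assoc, CharTwo.add_self_eq_zero]
    · rw [tc x hx']
      simp only [QT, mul_one, hlev x hx hx']
      rw [CharTwo.add_self_eq_zero, zero_add, add_assoc, CharTwo.add_self_eq_zero, add_zero]
  refine ⟨1 + Cfsg.quadFormPlus m (ZMod 2) (A c₀), t, ⟨hQ, ?_, ?_⟩, fun x hx y hy => Pall y hy x hx, ?_⟩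
  · -- injective
    intro x hx y hy he
    rcases trich x hx with rfl | hx' | hx' <;> rcases trich y hy with rfl | hy' | hy'
    · rfl
    · rw [td, tb y hy', Prod.mk.injEq] at he; exact absurd he.2.symm (L.ne y hy')
    · rw [td, tc y hy'] at he; simp at he
    · rw [td, tb x hx', Prod.mk.injEq] at he; exact absurd he.2 (L.ne x hx')
    · rw [tb x hx', tb y hy', Prod.mk.injEq] at he; exact L.inj hx' hy' he.2
    · rw [tb x hx', tc y hy'] at he; simp at he
    · rw [td, tc x hx'] at he; simp at he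
    · rw [tb y hy', tc x hx'] at he; simp at he
    · rw [tc x hx', tc y hy', Prod.mk.injEq] at he
      have heq : ∀ z ∈ perp D d, nc z x = nc z y := fun z hz => by
        rw [qA x hx hx' z hz, qA y hy hy' z hz, he.2]
      rcases fibre h hL hd hx hx' hy hy' heq with rfl | rfl
      · rfl
      · have h1 := tdc x hx hx'
        rw [tc _ hy', tc x hx', td] at h1
        have h2 : al (d * x * d) = 1 + al x := congrArg (fun p : TV m => p.1.1) h1
        have h3 : al x = al (d * x * d) := congrArg Prod.fst he.1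
        rw [← h3] at h2
        exact absurd h2 ((by decide : ∀ z : ZMod 2, ¬ z = 1 + z) _)
  · -- surjective
    rintro ⟨⟨a, b⟩, v⟩ hp
    simp only [Set.mem_ofPred_eq, QT] at hp
    rcases two_cases b with rfl | rfl
    · simp only [mul_zero, add_zero] at hp
      by_cases hv : v = 0
      · subst hv
        refine ⟨d, hd, ?_⟩
        rw [td]
        simpa [Cfsg.quadFormPlus, eq_comm] using hp
      · obtain ⟨x, hx, rfl⟩ := L.surj v hv
        refine ⟨x, hx.1, ?_⟩
        rw [tb x hx, show 1 + Cfsg.quadFormPlus m (ZMod 2) (L.vec x) = a from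
          (by decide : ∀ a p : ZMod 2, a + p = 1 → 1 + p = a) _ _ hp]
    · have hv : Cfsg.quadFormPlus m (ZMod 2) v = Cfsg.quadFormPlus m (ZMod 2) (A c₀) :=
        (by decide : ∀ a p q : ZMod 2, a + a * 1 + (1 + p) * 1 + q = 1 → q = p) _ _ _ hp
      suffices hs : ∃ c ∈ D, ¬ Commute d c ∧ A c = v by
        obtain ⟨c, hc, hdc, rfl⟩ := hs
        obtain ⟨h1, h2, h3⟩ := hAd c hc hdc
        rcases two_cases (a + al c) with ha | ha
        · exact ⟨c, hc, by rw [tc c hdc, ← CharTwo.add_eq_zero.1 ha]⟩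
        · refine ⟨d * c * d, h1, ?_⟩
          rw [tdc c hc hdc, td, tc c hdc]
          have : a = 1 + al c := (by decide : ∀ p q : ZMod 2, p + q = 1 → p = 1 + q) _ _ ha
          rw [this]
          ext <;> simp
      by_cases he : v = A c₀
      · exact ⟨c₀, hc₀, hdc₀, he.symm⟩
      have hw : A c₀ + v ≠ 0 := fun h0 => he (eq_of_add_eq_zero h0).symm
      obtain ⟨b, hb, hbv⟩ := L.surj _ hw
      have hcancel : A c₀ + L.vec b = v := by
        rw [hbv, ← add_assoc, show A c₀ + A c₀ = 0 from funext fun i => CharTwo.add_self_eq_zero _,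
          zero_add]
      have hbc : ¬ Commute b c₀ := by
        rw [← nc_eq_one]
        have h1 := hA c₀ hc₀ hdc₀ b hb
        rw [qf_eq, hcancel, hv, CharTwo.add_self_eq_zero] at h1
        exact (by decide : ∀ z : ZMod 2, 0 = 1 + z → z = 1) _ h1
      obtain ⟨h1, h2, h3⟩ := hAb c₀ hc₀ hdc₀ b hb hbc
      exact ⟨_, h1, h2, h3.trans hcancel⟩
  · intro x hx z hz hxz
    refine hsep _ _ fun y hy => ?_
    rw [← Pall _ (hmem hx hz) y hy, nc_third h hL hx hz hxz hy, Pall x hx y hy, Pall z hz y hy,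
      BT_add_right]

end CfsgLib.FischerThm.Sp
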