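import Cfsg.Agent.FischerThm.CommonLocal
import Cfsg.Agent.QuadTwo.Forms
import Cfsg.Agent.Forms.Symplectic

/-!
# A symplectic neighbourhood as a set of vectors
-/

set_option autoImplicit false

universe u

namespace CfsgLib.FischerThm.Sp

open CfsgLib CfsgLib.QuadTwo Cfsg CfsgLib.FischerTypes
open scoped Matrix

variable {m : ℕ}

theorem two_cases (z : ZMod 2) : z = 0 ∨ z = 1 := by revert z; decide

theorem eq_of_add_eq_zero {u v : Vec m} (h : u + v = 0) : u = v :=
  funext fun i => CharTwo.add_eq_zero.1 (congrFun h i)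

theorem pol_eq_sympForm (u v : Vec m) : pol u v = Cfsg.sympForm m (ZMod 2) u v := by
  rw [Forms.sympForm_eq_sum]
  exact Finset.sum_congr rfl fun i _ => by rw [CharTwo.sub_eq_add]; ring

theorem pol_add_left (u v w : Vec m) : pol (u + v) w = pol u w + pol v w := by
  rw [pol_comm, pol_add_right, pol_comm w, pol_comm w]

theorem pol_smul_left (c : ZMod 2) (u v : Vec m) : pol (c • u) v = c * pol u v := by
  rw [pol_comm, pol_smul_right, pol_comm]

theorem pol_zero_right (u : Vec m) : pol u 0 = 0 := by simp [pol]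

theorem pol_zero_left (u : Vec m) : pol 0 u = 0 := by simp [pol]

theorem pol_sep {u : Vec m} (h : ∀ v, pol u v = 0) : u = 0 :=
  Forms.sympForm_sep u fun v => by rw [← pol_eq_sympForm]; exact h v

theorem exists_pol_eq_one {u : Vec m} (hu : u ≠ 0) : ∃ v, pol u v = 1 := by
  by_contra hno
  push Not at hno
  exact hu (pol_sep fun v => (two_cases _).resolve_right (hno v))

theorem exists_pol_eq_one₂ {u u' : Vec m} (hu : u ≠ 0) (hu' : u' ≠ 0) :
    ∃ v, pol u v = 1 ∧ pol u' v = 1 := by
  obtain ⟨x, hx⟩ := exists_pol_eq_one hu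
  obtain ⟨y, hy⟩ := exists_pol_eq_one hu'
  rcases two_cases (pol u' x) with h | h
  · rcases two_cases (pol u y) with h' | h'
    · exact ⟨x + y, by rw [pol_add_right, hx, h', add_zero], by rw [pol_add_right, h, hy, zero_add]⟩
    · exact ⟨y, h', hy⟩
  · exact ⟨x, hx, h⟩

/-- What is orthogonal to `u ⊥` is a multiple of `u`. -/
theorem eq_or_eq_of_perp {u x : Vec m} (hu : u ≠ 0) (h : ∀ z, pol z u = 0 → pol z x = 0) :
    x = 0 ∨ x = u := by
  obtain ⟨e, he⟩ := exists_pol_eq_one hu
  have he' : pol e u = 1 := by rw [pol_comm, he]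
  have hx : x = pol e x • u := by
    apply eq_of_add_eq_zero
    refine pol_sep fun z => ?_
    have h' := h (z + pol z u • e) (by
      rw [pol_add_left, pol_smul_left, he', mul_one, CharTwo.add_self_eq_zero])
    rw [pol_add_left, pol_smul_left] at h'
    rw [pol_add_left, pol_smul_left, pol_comm x, pol_comm u, mul_comm]
    exact h'
  rcases two_cases (pol e x) with h' | h'
  · exact Or.inl (by rw [hx, h', zero_smul])
  · exact Or.inr (by rw [hx, h', one_smul])

/-- The transvection of a vector. -/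
noncomputable def tv (w : Vec m) : Matrix.symplecticGroup (Fin m) (ZMod 2) := Forms.spTransv w 1

theorem tv_mulVec (w x : Vec m) : (tv w).1 *ᵥ x = x + pol x w • w := by
  show Cfsg.sympTransvection m w 1 *ᵥ x = _
  rw [Forms.sympTransvection_mulVec, one_mul, pol_eq_sympForm]

theorem tv_injective {u v : Vec m} (hu : u ≠ 0) (h : tv u = tv v) : u = v := by
  obtain ⟨x, hx⟩ := exists_pol_eq_one hu
  have h' : (tv u).1 *ᵥ x = (tv v).1 *ᵥ x := by rw [h]
  rw [tv_mulVec, tv_mulVec, pol_comm x u, hx, one_smul] at h'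
  have h'' := add_left_cancel h'
  rcases two_cases (pol x v) with hv | hv
  · rw [hv, zero_smul] at h''; exact absurd h'' hu
  · rw [h'', hv, one_smul]

theorem tv_conj (u v : Vec m) : tv u * tv v * tv u = tv (v + pol v u • u) := by
  refine Forms.sp_ext fun x => ?_
  rw [Submonoid.coe_mul, Submonoid.coe_mul, ← Matrix.mulVec_mulVec, ← Matrix.mulVec_mulVec]
  simp only [tv_mulVec, pol_add_left, pol_smul_left, pol_add_right, pol_smul_right, smul_add,
    smul_smul, add_smul, pol_self, mul_zero, add_zero]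
  rw [pol_comm v u, pol_comm x u]
  generalize pol u x = p
  generalize pol x v = q
  generalize pol u v = r
  funext i
  simp only [Pi.add_apply, Pi.smul_apply, smul_eq_mul]
  generalize x i = a
  generalize v i = b
  generalize u i = c
  have key : ∀ p q r a b c : ZMod 2,
      a + p * c + (q * b + p * r * b) + (p * c + (q * r * c + p * r * r * c)) =
        a + (q * b + r * p * b + (q + r * p) * r * c) := by decide
  exact key p q r a b c

theorem tv_sq (u : Vec m) : tv u * tv u = 1 := by
  refine Forms.sp_ext fun x => ?_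
  rw [Submonoid.coe_mul, ← Matrix.mulVec_mulVec, tv_mulVec, tv_mulVec, pol_add_left, pol_smul_left,
    pol_self, mul_zero, add_zero, add_assoc, ← add_smul, CharTwo.add_self_eq_zero, zero_smul, add_zero,
    Submonoid.coe_one, Matrix.one_mulVec]

theorem commute_tv_iff {u v : Vec m} (hu : u ≠ 0) (hv : v ≠ 0) :
    Commute (tv u) (tv v) ↔ pol u v = 0 := by
  constructor
  · intro hc
    have h1 : tv v = tv (v + pol v u • u) := by
      rw [← tv_conj, hc.eq, mul_assoc, tv_sq, mul_one]
    have h2 := tv_injective hv h1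
    rw [left_eq_add, smul_eq_zero] at h2
    rw [pol_comm]
    exact h2.resolve_right hu
  · intro h
    have h1 := tv_conj u v
    rw [pol_comm v u, h, zero_smul, add_zero] at h1
    show _ * _ = _ * _
    conv_rhs => rw [← h1]
    rw [mul_assoc (tv u * tv v), tv_sq, mul_one]

theorem tv_mem_spD {w : Vec m} (hw : w ≠ 0) : tv w ∈ spD m := by
  show Module.finrank (ZMod 2) (LinearMap.range ((tv w).1 - 1).mulVecLin) = 1
  have happ : ∀ x, ((tv w).1 - 1).mulVecLin x = pol x w • w := fun x => by
    rw [Matrix.mulVecLin_apply, Matrix.sub_mulVec, tv_mulVec, Matrix.one_mulVec, add_sub_cancel_left]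
  have e : LinearMap.range ((tv w).1 - 1).mulVecLin = Submodule.span (ZMod 2) {w} := by
    refine le_antisymm ?_ ((Submodule.span_singleton_le_iff_mem _ _).2 ?_)
    · rintro _ ⟨x, rfl⟩
      rw [happ]
      exact Submodule.smul_mem _ _ (Submodule.mem_span_singleton_self w)
    · obtain ⟨x, hx⟩ := exists_pol_eq_one hw
      exact ⟨x, by rw [happ, pol_comm, hx, one_smul]⟩
  rw [e, finrank_span_singleton hw]

theorem exists_tv {g : Matrix.symplecticGroup (Fin m) (ZMod 2)} (hg : g ∈ spD m) :
    ∃ w, w ≠ 0 ∧ g = tv w := by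
  set N := (g.1 - 1).mulVecLin with hN
  obtain ⟨⟨w, hwmem⟩, hw0, hspan⟩ := finrank_eq_one_iff'.1
    (hg : Module.finrank (ZMod 2) (LinearMap.range N) = 1)
  have hw : w ≠ 0 := fun h => hw0 (Subtype.ext h)
  have hf : ∀ x, ∃ c : ZMod 2, N x = c • w := fun x => by
    obtain ⟨c, hc⟩ := hspan ⟨N x, LinearMap.mem_range_self N x⟩
    exact ⟨c, (congrArg Subtype.val hc).symm⟩
  choose f hf using hf
  have happ : ∀ x, g.1 *ᵥ x = x + f x • w := fun x => by
    rw [← hf, hN, Matrix.mulVecLin_apply, Matrix.sub_mulVec, Matrix.one_mulVec]; abel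
  have key : ∀ x y, f y * pol x w + f x * pol w y = 0 := fun x y => by
    have h1 := Forms.sympForm_map g x y
    rw [← pol_eq_sympForm, ← pol_eq_sympForm, happ, happ] at h1
    simp only [pol_add_left, pol_add_right, pol_smul_left, pol_smul_right, pol_self, mul_zero,
      add_zero, add_assoc, add_eq_left] at h1
    linear_combination h1
  obtain ⟨x₀, hx₀⟩ := hwmem
  have hfx : f x₀ = 1 := (two_cases _).resolve_left fun h => hw (by rw [← hx₀, hf, h, zero_smul])
  have hxw : pol x₀ w = 1 := by
    refine (two_cases _).resolve_left fun h => hw (pol_sep fun y => ?_)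
    have := key x₀ y
    rwa [h, hfx, mul_zero, one_mul, zero_add] at this
  refine ⟨w, hw, Forms.sp_ext fun y => ?_⟩
  have h2 := key x₀ y
  rw [hfx, hxw, mul_one, one_mul, CharTwo.add_eq_zero] at h2
  rw [happ, tv_mulVec, h2, pol_comm]

variable {G : Type u} [Group G] {D : Set G}

/-- Vectors for the members commuting with `a`. -/
structure Lab (D : Set G) (a : G) (m : ℕ) where
  vec : G → Vec m
  inj : Set.InjOn vec (perp D a)
  ne : ∀ x ∈ perp D a, vec x ≠ 0
  surj : ∀ v, v ≠ 0 → ∃ x ∈ perp D a, vec x = v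
  comm : ∀ x ∈ perp D a, ∀ y ∈ perp D a, Commute x y ↔ pol (vec x) (vec y) = 0
  third : ∀ x ∈ perp D a, ∀ y ∈ perp D a, ¬ Commute x y → vec (x * y * x) = vec x + vec y

theorem exists_lab [Finite G] (h : Generic D) {a : G} (ha : a ∈ D)
    (hT : DIso (sImg (perp D a)) (spD m)) : Nonempty (Lab D a m) := by
  classical
  obtain ⟨e, he⟩ := hT
  have hsub := perp_subset D a
  have hex : ∀ x (hx : x ∈ perp D a), ∃ w, w ≠ 0 ∧ e (sMk _ hx) = tv w := fun x hx =>
    exists_tv (he ▸ ⟨_, sMk_mem_sImg hx, rfl⟩)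
  choose w hw0 hw using hex
  let vec : G → Vec m := fun x => if hx : x ∈ perp D a then w x hx else 0
  have hvec : ∀ x (hx : x ∈ perp D a), vec x = w x hx := fun x hx => dif_pos hx
  have hinj : Set.InjOn vec (perp D a) := fun x hx y hy hxy => by
    rw [hvec x hx, hvec y hy] at hxy
    exact sMk_inj h.cls.1 hsub (h.sNoCentral ha) hx hy (e.injective (by rw [hw, hw, hxy]))
  have hcomm : ∀ x ∈ perp D a, ∀ y ∈ perp D a, Commute x y ↔ pol (vec x) (vec y) = 0 := by
    intro x hx y hy
    rw [hvec x hx, hvec y hy, ← commute_tv_iff (hw0 x hx) (hw0 y hy), ← hw, ← hw,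
      ← commute_sMk_iff h.cls.1 hsub hx hy]
    exact ⟨fun hc => hc.map e.toMonoidHom, fun hc => by simpa using hc.map e.symm.toMonoidHom⟩
  refine ⟨⟨vec, hinj, fun x hx => by rw [hvec x hx]; exact hw0 x hx, fun v hv => ?_, hcomm, ?_⟩⟩
  · have hv' : tv v ∈ e '' sImg (perp D a) := by rw [he]; exact tv_mem_spD hv
    obtain ⟨q, hq, hqv⟩ := hv'
    obtain ⟨x, hx, rfl⟩ := exists_sMk hq
    exact ⟨x, hx, by rw [hvec x hx]; exact tv_injective (hw0 x hx) (by rw [← hw, hqv])⟩
  · intro x hx y hy hxy
    have hz : x * y * x ∈ perp D a := h.perp_closed x hx y hy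
    have hp : pol (w y hy) (w x hx) = 1 := by
      refine (two_cases _).resolve_left fun h0 => hxy ?_
      rw [hcomm x hx y hy, hvec x hx, hvec y hy, pol_comm, h0]
    have hs : sMk (perp D a) hz = sMk _ hx * sMk _ hy * sMk _ hx := rfl
    rw [hvec _ hz, hvec x hx, hvec y hy]
    refine tv_injective (hw0 _ hz) ?_
    rw [← hw, hs, map_mul, map_mul, hw, hw, tv_conj, hp, one_smul, add_comm]

end CfsgLib.FischerThm.Sp
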