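import Cfsg.Agent.FischerThm.SpStep.Vectors

/-!
# Members outside a symplectic neighbourhood give quadratic forms
-/

set_option autoImplicit false

universe u

namespace CfsgLib.FischerThm.Sp

open CfsgLib CfsgLib.QuadTwo Cfsg CfsgLib.FischerTypes
open scoped Classical

variable {G : Type u} [Group G] {D : Set G} {m : ℕ}

/-- The indicator of not commuting. -/
noncomputable def nc (x y : G) : ZMod 2 := if Commute x y then 0 else 1

theorem nc_eq_zero {x y : G} : nc x y = 0 ↔ Commute x y := by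
  unfold nc; split_ifs with h <;> simp [h]

theorem nc_eq_one {x y : G} : nc x y = 1 ↔ ¬ Commute x y := by
  unfold nc; split_ifs with h <;> simp [h]

theorem nc_comm (x y : G) : nc x y = nc y x := by
  unfold nc
  exact if_congr ⟨fun h => h.symm, fun h => h.symm⟩ rfl rfl

theorem nc_self (x : G) : nc x x = 0 := nc_eq_zero.2 (Commute.refl _)

theorem Lab.nc_eq {a : G} (L : Lab D a m) {x y : G} (hx : x ∈ perp D a) (hy : y ∈ perp D a) :
    nc x y = pol (L.vec x) (L.vec y) := by
  unfold nc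
  rcases two_cases (pol (L.vec x) (L.vec y)) with h | h
  · rw [h, if_pos ((L.comm x hx y hy).2 h)]
  · rw [h, if_neg fun hc => ?_]
    have h0 := (L.comm x hx y hy).1 hc
    rw [h] at h0
    exact one_ne_zero h0

/-- The member with a given vector. -/
noncomputable def Lab.mem {a : G} (L : Lab D a m) (v : Vec m) (hv : v ≠ 0) : G := (L.surj v hv).choose

theorem Lab.mem_spec {a : G} (L : Lab D a m) (v : Vec m) (hv : v ≠ 0) :
    L.mem v hv ∈ perp D a ∧ L.vec (L.mem v hv) = v := (L.surj v hv).choose_spec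

/-- The indicator of the partners of `c` among those of `d`, on vectors. -/
noncomputable def ind {d : G} (L : Lab D d m) (c : G) (v : Vec m) : ZMod 2 :=
  if hv : v = 0 then 0 else 1 + nc (L.mem v hv) c

theorem ind_vec {d : G} (L : Lab D d m) (c : G) {x : G} (hx : x ∈ perp D d) :
    ind L c (L.vec x) = 1 + nc x c := by
  have h := L.mem_spec _ (L.ne x hx)
  rw [ind, dif_neg (L.ne x hx), L.inj h.1 hx h.2]

variable [Finite G]

section
variable (h : Generic D)
include h

theorem exists_common {d c : G} (hd : d ∈ D) (hc : c ∈ D) (hdc : ¬ Commute d c) :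
    ∃ a, a ∈ perp D d ∧ a ∈ perp D c := by
  obtain ⟨x, hx⟩ := h.perp_nonempty hd
  obtain ⟨y, hy⟩ := h.perp_nonempty hx.1
  obtain ⟨z, hz, hyz⟩ := h.noCentral hx.1 y hy
  obtain ⟨g, hg1, hg2⟩ := h.exists_conj_pair hy.1 hz.1 hyz hd hc hdc
  refine ⟨g * x * g⁻¹, ?_, ?_⟩
  · rw [← hg1, ← image_perp_conj h.group g y]; exact ⟨x, perp_symm' hx.1 hy, rfl⟩
  · rw [← hg2, ← image_perp_conj h.group g z]; exact ⟨x, perp_symm' hx.1 hz, rfl⟩

omit [Finite G] h in
/-- The members of a singular line are twins in the space of one of them. -/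
theorem twin {d a x y : G} (hd : d ∈ D) (L : Lab D d m) (La : Lab D a m) (ha : a ∈ perp D d)
    (hx : x ∈ perp D d) (hy : y ∈ perp D d) (hax : pol (L.vec a) (L.vec x) = 0) (hne : a ≠ x)
    (hsum : L.vec y = L.vec a + L.vec x) :
    x ∈ perp D a ∧ y ∈ perp D a ∧ La.vec x + La.vec y = La.vec d := by
  have hay : pol (L.vec a) (L.vec y) = 0 := by rw [hsum, pol_add_right, pol_self, hax, add_zero]
  have hya : y ≠ a := fun e => L.ne x hx (by rw [e, left_eq_add] at hsum; exact hsum)
  have hxa : x ∈ perp D a := ⟨hx.1, Ne.symm hne, (L.comm a ha x hx).2 hax⟩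
  have hya' : y ∈ perp D a := ⟨hy.1, hya, (L.comm a ha y hy).2 hay⟩
  have hda : d ∈ perp D a := perp_symm' hd ha
  refine ⟨hxa, hya', ?_⟩
  rcases eq_or_eq_of_perp (La.ne d hda) (x := La.vec x + La.vec y) (fun z hz => by
    by_cases hz0 : z = 0
    · rw [hz0, pol_zero_left]
    obtain ⟨w, hw, rfl⟩ := La.surj z hz0
    rw [pol_add_right, ← La.nc_eq hw hxa, ← La.nc_eq hw hya']
    by_cases hwd : w = d
    · rw [hwd, nc_eq_zero.2 hx.2.2, nc_eq_zero.2 hy.2.2, add_zero]
    have hwd' : w ∈ perp D d := ⟨hw.1, hwd, ((La.comm w hw d hda).2 hz).symm⟩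
    have h1 : pol (L.vec w) (L.vec a) = 0 := (L.comm w hwd' a ha).1 hw.2.2.symm
    rw [L.nc_eq hwd' hx, L.nc_eq hwd' hy, hsum, pol_add_right, h1, zero_add, CharTwo.add_self_eq_zero])
    with h0 | h0
  · have hxy : x = y := La.inj hxa hya' (eq_of_add_eq_zero h0)
    exact absurd (by rw [← hxy, right_eq_add] at hsum; exact hsum) (L.ne a ha)
  · exact h0

variable (hL : ∀ a ∈ D, Nonempty (Lab D a m))
include hL

omit [Finite G] h in
theorem line_sum {d a x y c : G} (hd : d ∈ D) (L : Lab D d m) (ha : a ∈ perp D d) (hx : x ∈ perp D d)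
    (hy : y ∈ perp D d) (hc : c ∈ D) (hdc : ¬ Commute d c) (hax : pol (L.vec a) (L.vec x) = 0)
    (hne : a ≠ x) (hsum : L.vec y = L.vec a + L.vec x) (hac : nc a c = 0) : nc x c + nc y c = 1 := by
  obtain ⟨La⟩ := hL a ha.1
  obtain ⟨hxa, hya, he⟩ := twin hd L La ha hx hy hax hne hsum
  have hca : c ∈ perp D a := ⟨hc, fun e => hdc (e ▸ ha.2.2), nc_eq_zero.1 hac⟩
  rw [La.nc_eq hxa hca, La.nc_eq hya hca, ← pol_add_left, he, ← La.nc_eq (perp_symm' hd ha) hca]
  exact nc_eq_one.2 hdc

omit [Finite G] h in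
theorem ind_orth_add {d c : G} (hd : d ∈ D) (hc : c ∈ D) (hdc : ¬ Commute d c) (L : Lab D d m)
    (u v : Vec m) (huv : pol u v = 0) : ind L c (u + v) = ind L c u + ind L c v := by
  by_cases hu : u = 0
  · rw [hu, zero_add, show ind L c (0 : Vec m) = 0 from dif_pos rfl, zero_add]
  by_cases hv : v = 0
  · rw [hv, add_zero, show ind L c (0 : Vec m) = 0 from dif_pos rfl, add_zero]
  by_cases he : u = v
  · subst he
    rw [show u + u = 0 from funext fun i => CharTwo.add_self_eq_zero _,
      show ind L c (0 : Vec m) = 0 from dif_pos rfl, CharTwo.add_self_eq_zero]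
  have hw : u + v ≠ 0 := fun e => he (eq_of_add_eq_zero e)
  obtain ⟨a, ha, rfl⟩ := L.surj u hu
  obtain ⟨x, hx, rfl⟩ := L.surj v hv
  obtain ⟨y, hy, hsum⟩ := L.surj _ hw
  rw [← hsum, ind_vec L c ha, ind_vec L c hx, ind_vec L c hy]
  have hax : a ≠ x := fun e => he (by rw [e])
  have h1 := line_sum hL hd L ha hx hy hc hdc huv hax hsum
  have h2 := line_sum hL hd L hx ha hy hc hdc (by rw [pol_comm, huv]) hax.symm
    (by rw [hsum, add_comm])
  have h3 := line_sum hL hd L hy ha hx hc hdc (by rw [hsum, pol_add_left, pol_self, pol_comm, huv, add_zero])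
    (fun e => hv (by rw [e, left_eq_add] at hsum; exact hsum))
    (by rw [hsum, add_comm (L.vec a) (L.vec x), add_assoc,
      show L.vec a + L.vec a = 0 from funext fun i => CharTwo.add_self_eq_zero _, add_zero])
  have key : ∀ p q r : ZMod 2, (p = 0 → q + r = 1) → (q = 0 → p + r = 1) → (r = 0 → p + q = 1) →
      1 + r = (1 + p) + (1 + q) := by decide
  exact key _ _ _ h1 h2 h3

/-- The partners of `c` among those of `d` are given by a quadratic form. -/
theorem exists_form {d c : G} (hd : d ∈ D) (hc : c ∈ D) (hdc : ¬ Commute d c) (L : Lab D d m) :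
    ∃ a : Vec m, ∀ x ∈ perp D d, qf a (L.vec x) = 1 + nc x c := by
  obtain ⟨r, hr⟩ := exists_const_of_orth_add (ind L c) (ind_orth_add hL hd hc hdc L)
  have hr1 : r = 1 := by
    refine (two_cases r).resolve_left fun hr0 => ?_
    obtain ⟨a, had, hac⟩ := exists_common h hd hc hdc
    have ha1 : ind L c (L.vec a) = 1 := by rw [ind_vec L c had, nc_eq_zero.2 hac.2.2.symm, add_zero]
    obtain ⟨v, hv⟩ := exists_pol_eq_one (L.ne a had)
    obtain ⟨v, hv, hv1⟩ : ∃ v, pol (L.vec a) v = 1 ∧ ind L c v = 1 := by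
      rcases two_cases (ind L c v) with h0 | h0
      · refine ⟨L.vec a + v, by rw [pol_add_right, pol_self, hv, zero_add], ?_⟩
        rw [hr _ _ hv, ha1, h0, hr0, add_zero, add_zero]
      · exact ⟨v, hv, h0⟩
    have hv0 : v ≠ 0 := by rintro rfl; rw [pol_zero_right] at hv; exact zero_ne_one hv
    obtain ⟨x, hx, rfl⟩ := L.surj v hv0
    have hax : ¬ Commute a x := fun hh => by
      have := (L.comm a had x hx).1 hh; rw [hv] at this; exact one_ne_zero this
    have hy : a * x * a ∈ perp D d := h.perp_closed a had x hx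
    have hxc : Commute c x := by
      rw [ind_vec L c hx, add_eq_left] at hv1
      exact (nc_eq_zero.1 hv1).symm
    have h1 : ind L c (L.vec (a * x * a)) = 1 := by
      rw [ind_vec L c hy, nc_eq_zero.2 (((hac.2.2).mul_right hxc).mul_right hac.2.2).symm, add_zero]
    rw [L.third a had x hx hax, hr _ _ hv, ha1, hv1, hr0] at h1
    exact absurd h1 (by decide)
  have hpolar : IsPolar (ind L c) := by
    intro u v
    rw [plus_add]
    rcases two_cases (pol u v) with hp | hp
    · rw [ind_orth_add hL hd hc hdc L u v hp, hp]; ring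
    · rw [hr u v hp, hr1, hp]; ring
  obtain ⟨a, ha⟩ := exists_qf _ hpolar
  exact ⟨a, fun x hx => by rw [ha, ind_vec L c hx]⟩

/-- No member commutes with none of a non-commuting pair and its third. -/
theorem nc_third {x z u : G} (hx : x ∈ D) (hz : z ∈ D) (hxz : ¬ Commute x z) (hu : u ∈ D) :
    nc u (x * z * x) = nc u x + nc u z := by
  have third_comm : ∀ {x z : G}, x ∈ D → Commute u x → (Commute u (x * z * x) ↔ Commute u z) := by
    intro x z hx hux
    refine ⟨fun h' => ?_, fun h' => (hux.mul_right h').mul_right hux⟩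
    have := (hux.mul_right h').mul_right hux
    rwa [show x * (x * z * x) * x = (x * x) * z * (x * x) by group, FischerTypes.mul_self h.cls.1 hx,
      one_mul, mul_one] at this
  by_cases h1 : Commute u x
  · rw [nc_eq_zero.2 h1, zero_add]
    exact if_congr (third_comm hx h1) rfl rfl
  by_cases h2 : Commute u z
  · rw [nc_eq_zero.2 h2, add_zero, FischerTypes.braid h.cls.1 hx hz hxz]
    exact if_congr (third_comm hz h2) rfl rfl
  rw [nc_eq_one.2 h1, nc_eq_one.2 h2, CharTwo.add_self_eq_zero]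
  obtain ⟨a, hax, haz⟩ := exists_common h hx hz hxz
  have hxa : x ∈ perp D a := perp_symm' hx hax
  have hza : z ∈ perp D a := perp_symm' hz haz
  obtain ⟨La⟩ := hL a hax.1
  have hy := h.perp_closed x hxa z hza
  by_cases hua : Commute a u
  · have hua' : u ∈ perp D a := ⟨hu, fun e => h1 (e ▸ hxa.2.2), hua⟩
    rw [La.nc_eq hua' hy, La.third x hxa z hza hxz, pol_add_right, ← La.nc_eq hua' hxa,
      ← La.nc_eq hua' hza, nc_eq_one.2 h1, nc_eq_one.2 h2, CharTwo.add_self_eq_zero]
  · obtain ⟨A, hA⟩ := exists_form h hL hax.1 hu hua La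
    have e1 := hA x hxa
    have e2 := hA z hza
    rw [nc_comm, nc_eq_one.2 h1] at e1
    rw [nc_comm, nc_eq_one.2 h2] at e2
    have e3 := hA _ hy
    rw [La.third x hxa z hza hxz] at e3
    have hp : pol (La.vec x) (La.vec z) = 1 := by rw [← La.nc_eq hxa hza]; exact nc_eq_one.2 hxz
    have e4 : qf A (La.vec x + La.vec z) = qf A (La.vec x) + qf A (La.vec z) + pol (La.vec x) (La.vec z) := by
      rw [qf, qf, qf, plus_add, pol_add_right]; ring
    rw [e4, e1, e2, hp] at e3
    rw [nc_comm]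
    exact (by decide : ∀ s : ZMod 2, (1 + 1 : ZMod 2) + (1 + 1) + 1 = 1 + s → s = 0) _ e3

/-- A member outside is determined by its partners inside, up to conjugation by `d`. -/
theorem fibre {d c c' : G} (hd : d ∈ D) (hc : c ∈ D) (hdc : ¬ Commute d c) (hc' : c' ∈ D)
    (hdc' : ¬ Commute d c') (heq : ∀ x ∈ perp D d, nc x c = nc x c') : c' = c ∨ c' = d * c * d := by
  obtain ⟨a, had, hac⟩ := exists_common h hd hc hdc
  obtain ⟨La⟩ := hL a had.1
  have hda : d ∈ perp D a := perp_symm' hd had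
  have hca : c ∈ perp D a := perp_symm' hc hac
  have hca' : c' ∈ perp D a := by
    refine ⟨hc', fun e => hdc' (e ▸ had.2.2), nc_eq_zero.1 ?_⟩
    rw [← heq a had]; exact nc_eq_zero.2 hca.2.2
  rcases eq_or_eq_of_perp (La.ne d hda) (x := La.vec c + La.vec c') (fun z hz => by
    by_cases hz0 : z = 0
    · rw [hz0, pol_zero_left]
    obtain ⟨w, hw, rfl⟩ := La.surj z hz0
    rw [pol_add_right, ← La.nc_eq hw hca, ← La.nc_eq hw hca']
    by_cases hwd : w = d
    · rw [hwd, nc_eq_one.2 hdc, nc_eq_one.2 hdc', CharTwo.add_self_eq_zero]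
    rw [heq w ⟨hw.1, hwd, ((La.comm w hw d hda).2 hz).symm⟩, CharTwo.add_self_eq_zero]) with h0 | h0
  · exact Or.inl (La.inj hca' hca (eq_of_add_eq_zero h0).symm)
  · refine Or.inr (La.inj hca' (h.perp_closed d hda c hca) ?_)
    rw [La.third d hda c hca hdc, ← h0]
    funext i
    simp only [Pi.add_apply]
    generalize La.vec c i = p; generalize La.vec c' i = q
    revert p q; decide

omit hL in
/-- The forms of two outside members have the same type. -/
theorem plus_form_eq (hm : 1 ≤ m) {d c c' : G} (hd : d ∈ D) (hc : c ∈ D) (hdc : ¬ Commute d c)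
    (hc' : c' ∈ D) (hdc' : ¬ Commute d c') (L : Lab D d m) {a a' : Vec m}
    (ha : ∀ x ∈ perp D d, qf a (L.vec x) = 1 + nc x c)
    (ha' : ∀ x ∈ perp D d, qf a' (L.vec x) = 1 + nc x c') :
    Cfsg.quadFormPlus m (ZMod 2) a = Cfsg.quadFormPlus m (ZMod 2) a' := by
  have hset : ∀ {c : G} {a : Vec m}, c ∈ D → ¬ Commute d c →
      (∀ x ∈ perp D d, qf a (L.vec x) = 1 + nc x c) →
        {v | qf a v = 1}.ncard = (perp D d ∩ perp D c).ncard := by
    intro c a hc hdc ha
    rw [← (L.inj.mono Set.inter_subset_left).ncard_image]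
    congr 1
    ext v
    constructor
    · intro hv
      have hv0 : v ≠ 0 := by
        rintro rfl
        have : qf a (0 : Vec m) = 0 := by simp [qf, pol, Cfsg.quadFormPlus]
        rw [Set.mem_ofPred_eq, this] at hv
        exact zero_ne_one hv
      obtain ⟨x, hx, rfl⟩ := L.surj v hv0
      rw [Set.mem_ofPred_eq, ha x hx, add_eq_left] at hv
      exact ⟨x, ⟨hx, ⟨hx.1, fun e => hdc (e ▸ hx.2.2), (nc_eq_zero.1 hv).symm⟩⟩, rfl⟩
    · rintro ⟨x, hx, rfl⟩
      rw [Set.mem_ofPred_eq, ha x hx.1, nc_eq_zero.2 hx.2.2.2.symm, add_zero]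
  refine plus_eq_of_ncard_eq hm ?_
  rw [hset hc hdc ha, hset hc' hdc' ha']
  obtain ⟨g, hg1, hg2⟩ := h.exists_conj_pair hd hc hdc hd hc' hdc'
  have hinj : Function.Injective fun x => g * x * g⁻¹ := fun x y he =>
    mul_left_cancel (mul_right_cancel he)
  conv_rhs => rw [← hg1, ← hg2, ← image_perp_conj h.group g d, ← image_perp_conj h.group g c,
    ← Set.image_inter hinj, Set.ncard_image_of_injective _ hinj]

end

end CfsgLib.FischerThm.Sp
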