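import Cfsg.Agent.FischerThm.SpStep.Label

/-!
# Functions additive on orthogonal pairs
-/

set_option autoImplicit false

namespace CfsgLib.FischerThm.Sp

open CfsgLib CfsgLib.QuadTwo

variable {m : ℕ}

theorem exists_const_of_orth_add (f : Vec m → ZMod 2)
    (hadd : ∀ u v, pol u v = 0 → f (u + v) = f u + f v) :
    ∃ r : ZMod 2, ∀ u v, pol u v = 1 → f (u + v) = f u + f v + r := by
  let F : Vec m → Vec m → ZMod 2 := fun u v => f (u + v) + f u + f v
  have hsymm : ∀ u v, F u v = F v u := fun u v => by
    simp only [F]; rw [add_comm u v]; ring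
  -- moving the second argument
  have hstep : ∀ u v w, pol u v = 1 → pol u w = 0 → pol v w = 0 → F u (v + w) = F u v := by
    intro u v w _ h1 h2
    simp only [F]
    rw [← add_assoc, hadd (u + v) w (by rw [pol_add_left, h1, h2, add_zero]), hadd v w h2]
    linear_combination f w * (CharTwo.two_eq_zero : (2 : ZMod 2) = 0)
  have hfix : ∀ u v v', pol u v = 1 → pol u v' = 1 → F u v = F u v' := by
    intro u v v' hv hv'
    have hw : pol u (v + v') = 0 := by rw [pol_add_right, hv, hv', CharTwo.add_self_eq_zero]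
    have e : v' = v + (v + v') := by
      funext i; simp only [Pi.add_apply]
      rw [← add_assoc, CharTwo.add_self_eq_zero, zero_add]
    rcases two_cases (pol v (v + v')) with h | h
    · conv_rhs => rw [e]
      exact (hstep u v _ hv hw h).symm
    · -- then pass through `v + u`
      have h1 : F u (v + u) = F u v := by
        have e0 : u + (v + u) = v := by
          funext i; simp only [Pi.add_apply]
          rw [add_comm (v i), ← add_assoc, CharTwo.add_self_eq_zero, zero_add]
        simp only [F]
        rw [e0, add_comm v u]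
        ring
      have e' : v' = (v + u) + (v + v' + u) := by
        funext i; simp only [Pi.add_apply]
        generalize v i = a; generalize v' i = b; generalize u i = c; revert a b c; decide
      rw [← h1]
      conv_rhs => rw [e']
      refine (hstep u (v + u) _ (by rw [pol_add_right, hv, pol_self, add_zero])
        (by rw [pol_add_right, hw, pol_self, add_zero]) ?_).symm
      rw [pol_add_left, pol_add_right v, pol_add_right u, pol_self, hw, h, pol_comm v u, hv]
      decide
  by_cases hex : ∃ u v : Vec m, pol u v = 1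
  · obtain ⟨u₀, v₀, h₀⟩ := hex
    refine ⟨F u₀ v₀, fun u v h => ?_⟩
    have hu : u ≠ 0 := by rintro rfl; rw [pol_zero_left] at h; exact zero_ne_one h
    have hu₀ : u₀ ≠ 0 := by rintro rfl; rw [pol_zero_left] at h₀; exact zero_ne_one h₀
    obtain ⟨t, h1, h2⟩ := exists_pol_eq_one₂ hu hu₀
    have e : F u v = F u₀ v₀ := by
      rw [hfix u v t h h1, hsymm u t, hfix t u u₀ (by rw [pol_comm, h1]) (by rw [pol_comm, h2]),
        hsymm t u₀, hfix u₀ t v₀ h2 h₀]
    rw [← e]
    simp only [F]
    linear_combination -(f u + f v) * (CharTwo.two_eq_zero : (2 : ZMod 2) = 0)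
  · push Not at hex
    exact ⟨0, fun u v h => absurd h (hex u v)⟩

/-- The values of `qf` in terms of those of the plus form. -/
theorem qf_eq (a v : Vec m) :
    qf a v = Cfsg.quadFormPlus m (ZMod 2) (a + v) + Cfsg.quadFormPlus m (ZMod 2) a := by
  rw [qf, plus_add]
  linear_combination -(Cfsg.quadFormPlus m (ZMod 2) a) * (CharTwo.two_eq_zero : (2 : ZMod 2) = 0)

/-- The number of ones of `qf a` tells the value of the plus form at `a`. -/
theorem plus_eq_of_ncard_eq (hm : 1 ≤ m) {a b : Vec m}
    (h : {v | qf a v = 1}.ncard = {v | qf b v = 1}.ncard) :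
    Cfsg.quadFormPlus m (ZMod 2) a = Cfsg.quadFormPlus m (ZMod 2) b := by
  have hc : ∀ a : Vec m, {v | qf a v = 1}.ncard =
      Nat.card {v : Vec m // Cfsg.quadFormPlus m (ZMod 2) v = Cfsg.quadFormPlus m (ZMod 2) a + 1} := by
    intro a
    rw [← Nat.card_coe_set_eq]
    refine Nat.card_congr ((Equiv.addLeft a).subtypeEquiv fun v => ?_)
    show qf a v = 1 ↔ _
    rw [qf_eq, Equiv.coe_addLeft]
    exact (by decide : ∀ x y : ZMod 2, x + y = 1 ↔ x = y + 1) _ _
  by_contra hne
  rw [hc, hc] at h
  obtain ⟨-, h0, h1⟩ := card_values m hm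
  have hlt : 2 ^ (2 * m - 1) - 2 ^ (m - 1) < 2 ^ (2 * m - 1) + 2 ^ (m - 1) := by
    have h2 : 0 < 2 ^ (m - 1) := by positivity
    have h3 : 0 < 2 ^ (2 * m - 1) := by positivity
    omega
  rcases two_cases (Cfsg.quadFormPlus m (ZMod 2) a) with ha | ha <;>
    rcases two_cases (Cfsg.quadFormPlus m (ZMod 2) b) with hb | hb <;> rw [ha, hb] at h
  · exact hne (ha.trans hb.symm)
  · rw [zero_add, CharTwo.add_self_eq_zero, h0, h1] at h; exact hlt.ne h
  · rw [zero_add, CharTwo.add_self_eq_zero, h0, h1] at h; exact hlt.ne' h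
  · exact hne (ha.trans hb.symm)

end CfsgLib.FischerThm.Sp
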